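import Cfsg.Agent.EqLemmas

/-!
The extended 2-layer: one Sylow 2-subgroup suffices, normality, odd complement.
* `isPComponent_map`, `pLayer_normal`
* `map_pPrimeCore`, `pPrimeCore_coprime`
* `extendedTwoLayer_eq`, `extendedTwoLayer_normal`
-/

set_option autoImplicit false

namespace Cfsg.Agent.ExtLayer

variable {X Y : Type*} [Group X] [Group Y]

theorem isQuasisimple_equiv (e : X ≃* Y) (h : IsQuasisimple X) : IsQuasisimple Y := by
  obtain ⟨hp, hs⟩ := h
  refine ⟨Group.IsPerfect.ofSurjective (f := e.toMonoidHom) e.surjective, ?_⟩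
  have hc : (Subgroup.center X).map e.toMonoidHom = Subgroup.center Y := by
    ext y
    rw [Subgroup.mem_map]
    constructor
    · rintro ⟨x, hx, rfl⟩
      rw [Subgroup.mem_center_iff] at hx ⊢
      intro z
      obtain ⟨w, rfl⟩ := e.surjective z
      simp only [MulEquiv.coe_toMonoidHom]
      rw [← map_mul, ← map_mul, hx w]
    · intro hy
      refine ⟨e.symm y, ?_, by simp⟩
      rw [Subgroup.mem_center_iff] at hy ⊢
      intro w
      apply e.injective
      simp [hy (e w)]
  let q : X ⧸ Subgroup.center X ≃* Y ⧸ Subgroup.center Y :=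
    QuotientGroup.congr _ _ e (by rw [← hc]; rfl)
  exact q.symm.isSimpleGroup

theorem isComponent_map (e : X ≃* Y) {K : Subgroup X} (h : IsComponent K) :
    IsComponent (K.map e.toMonoidHom) :=
  ⟨Subgroup.IsSubnormal.map (f := e.toMonoidHom) e.surjective h.1,
    isQuasisimple_equiv (e.subgroupMap K) h.2⟩

theorem map_mem_cores {p : ℕ} (f : X ≃* Y) (N : Subgroup X)
    (hN : N.Normal ∧ (Nat.card N).Coprime p) :
    (N.map f.toMonoidHom).Normal ∧ (Nat.card (N.map f.toMonoidHom)).Coprime p := by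
  refine ⟨hN.1.map _ f.surjective, ?_⟩
  rw [Subgroup.card_map_of_injective (f := f.toMonoidHom) f.injective]
  exact hN.2

theorem map_pPrimeCore (p : ℕ) (e : X ≃* Y) :
    (pPrimeCore p X).map e.toMonoidHom = pPrimeCore p Y := by
  unfold pPrimeCore
  apply le_antisymm
  · rw [Subgroup.map_le_iff_le_comap]
    exact sSup_le fun N hN => Subgroup.map_le_iff_le_comap.1 (le_sSup (map_mem_cores e N hN))
  · refine sSup_le fun N hN => ?_
    have h := map_mem_cores e.symm N hN
    calc N = (N.map e.symm.toMonoidHom).map e.toMonoidHom := by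
            rw [Subgroup.map_map]
            simp [MulEquiv.toMonoidHom]
            ext x; simp
      _ ≤ _ := Subgroup.map_mono (le_sSup h)

theorem pPrimeCore_coprime [Finite X] (p : ℕ) : (Nat.card (pPrimeCore p X)).Coprime p := by
  unfold pPrimeCore
  set S := {N : Subgroup X | N.Normal ∧ (Nat.card N).Coprime p}
  suffices h : ∀ T : Set (Subgroup X), T ⊆ S →
      (sSup T).Normal ∧ (Nat.card ↥(sSup T)).Coprime p from (h S subset_rfl).2
  intro T hT
  induction T, T.toFinite using Set.Finite.induction_on with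
  | empty =>
    rw [sSup_empty]
    exact ⟨inferInstance, by simp⟩
  | @insert a s _ _ ih =>
    obtain ⟨i1, i2⟩ := ih ((Set.subset_insert a s).trans hT)
    obtain ⟨a1, a2⟩ := hT (Set.mem_insert a s)
    rw [sSup_insert]
    have := i1
    have := a1
    refine ⟨Subgroup.sup_normal a (sSup s), ?_⟩
    have h1 := Subgroup.card_mul_index ((sSup s).subgroupOf (a ⊔ sSup s))
    rw [Nat.card_congr (Subgroup.subgroupOfEquivOfLe le_sup_right).toEquiv, ← Subgroup.relIndex,
      Subgroup.relIndex_sup_right] at h1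
    rw [← h1]
    exact Nat.Coprime.mul_left i2 (Nat.Coprime.of_dvd_left (Subgroup.index_dvd_card _) a2)

theorem oddCore_odd [Finite X] : Odd (Nat.card (oddCore X)) :=
  Nat.coprime_two_right.1 (pPrimeCore_coprime 2)

theorem isPComponent_map (p : ℕ) (e : X ≃* X) {K : Subgroup X} (h : IsPComponent p K) :
    IsPComponent p (K.map e.toMonoidHom) := by
  obtain ⟨h1, h2, h3⟩ := h
  let q : X ⧸ pPrimeCore p X ≃* X ⧸ pPrimeCore p X :=
    QuotientGroup.congr _ _ e (map_pPrimeCore p e)
  have hq : ∀ L : Subgroup X, (L.map e.toMonoidHom).map (QuotientGroup.mk' (pPrimeCore p X))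
      = (L.map (QuotientGroup.mk' (pPrimeCore p X))).map q.toMonoidHom := by
    intro L
    rw [Subgroup.map_map, Subgroup.map_map]
    congr 1
  refine ⟨Subgroup.IsSubnormal.map (f := e.toMonoidHom) e.surjective h1, ?_, ?_⟩
  · rw [hq]
    exact isComponent_map q h2
  · intro H hH hle hmap
    have hle' : H.comap e.toMonoidHom ≤ K := by
      intro x hx
      obtain ⟨y, hy, hxy⟩ := hle hx
      rwa [← e.injective hxy]
    have hHe : (H.comap e.toMonoidHom).map e.toMonoidHom = H :=
      Subgroup.map_comap_eq_self_of_surjective (f := e.toMonoidHom) e.surjective H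
    have := h3 _ (hH.comap e.toMonoidHom) hle' (by
      apply Subgroup.map_injective (f := q.toMonoidHom) q.injective
      rw [← hq, ← hq, hHe, hmap])
    rw [← this, hHe]

instance pLayer_normal (p : ℕ) : (pLayer p X).Normal := by
  refine ⟨fun x hx g => ?_⟩
  have h : (pLayer p X).map (MulAut.conj g).toMonoidHom ≤ pLayer p X := by
    unfold pLayer
    rw [Subgroup.map_le_iff_le_comap]
    exact sSup_le fun K hK => Subgroup.map_le_iff_le_comap.1
      (le_sSup (isPComponent_map p (MulAut.conj g) hK))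
  exact h ⟨x, hx, rfl⟩

/-- The subgroup `L_{2'}(X) O_{2',2}(X)`. -/
abbrev base (X : Type*) [Group X] : Subgroup X := pLayer 2 X ⊔ pPrimePCore 2 X

instance pPrimePCore_normal (p : ℕ) : (pPrimePCore p X).Normal := by
  unfold pPrimePCore; infer_instance

/-- `O(C_X(T))` for a subgroup `T`. -/
abbrev coreCent (T : Subgroup X) : Subgroup X :=
  (oddCore ↥(Subgroup.centralizer (T : Set X))).map (Subgroup.centralizer (T : Set X)).subtype

theorem coreCent_map (e : X ≃* X) (T : Subgroup X) :
    (coreCent T).map e.toMonoidHom = coreCent (T.map e.toMonoidHom) := by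
  have hC : (Subgroup.centralizer (T : Set X)).map e.toMonoidHom
      = Subgroup.centralizer ((T.map e.toMonoidHom : Subgroup X) : Set X) := by
    ext y
    obtain ⟨x, rfl⟩ := e.surjective y
    rw [show e x = e.toMonoidHom x from rfl,
      Subgroup.mem_map_iff_mem (f := e.toMonoidHom) e.injective]
    simp only [Subgroup.mem_centralizer_iff, Subgroup.coe_map, MulEquiv.coe_toMonoidHom,
      Set.forall_mem_image, ← map_mul, e.injective.eq_iff]
  unfold coreCent
  rw [← hC]
  have h := map_pPrimeCore 2 (e.subgroupMap (Subgroup.centralizer (T : Set X)))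
  refine Eq.trans ?_ (congrArg (Subgroup.map _) h)
  ext x
  constructor
  · rintro ⟨_, ⟨y, hy, rfl⟩, rfl⟩
    exact ⟨_, ⟨y, hy, rfl⟩, rfl⟩
  · rintro ⟨_, ⟨y, hy, rfl⟩, rfl⟩
    exact ⟨_, ⟨y, hy, rfl⟩, rfl⟩

theorem coreCent_le (T : Subgroup X) : coreCent T ≤ Subgroup.centralizer (T : Set X) :=
  Subgroup.map_subtype_le _

variable [Finite X]

theorem exists_pow_mem_of_mem_pPrimePCore {p : ℕ} [Fact p.Prime] {x : X}
    (hx : x ∈ pPrimePCore p X) : ∃ k, x ^ p ^ k ∈ pPrimeCore p X := by
  have hp : IsPGroup p ↥(sSup {N : Subgroup (X ⧸ pPrimeCore p X) | N.Normal ∧ IsPGroup p N}) := by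
    set S := {N : Subgroup (X ⧸ pPrimeCore p X) | N.Normal ∧ IsPGroup p N}
    suffices h : ∀ T : Set (Subgroup (X ⧸ pPrimeCore p X)), T ⊆ S →
        (sSup T).Normal ∧ IsPGroup p ↥(sSup T) from (h S subset_rfl).2
    intro T hT
    induction T, T.toFinite using Set.Finite.induction_on with
    | empty =>
      rw [sSup_empty]
      exact ⟨inferInstance, IsPGroup.of_bot⟩
    | @insert a s _ _ ih =>
      obtain ⟨i1, i2⟩ := ih ((Set.subset_insert a s).trans hT)
      obtain ⟨a1, a2⟩ := hT (Set.mem_insert a s)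
      rw [sSup_insert]
      have := i1
      have := a1
      exact ⟨Subgroup.sup_normal a (sSup s), a2.to_sup_of_normal_right i2⟩
  obtain ⟨k, hk⟩ := hp ⟨_, hx⟩
  refine ⟨k, (QuotientGroup.eq_one_iff _).1 ?_⟩
  simpa using congrArg Subtype.val hk

theorem base_le (T : Sylow 2 ↥(base X)) :
    base X ≤ (pLayer 2 X ⊔ oddCore X) ⊔ (T : Subgroup ↥(base X)).map (base X).subtype := by
  set M0 := pLayer 2 X ⊔ oddCore X with hM0
  set T0 := (T : Subgroup ↥(base X)).map (base X).subtype
  have hM0n : M0.Normal := Subgroup.sup_normal _ _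
  have hle : M0 ≤ base X := sup_le le_sup_left (le_sup_of_le_right (fun x hx => by
    unfold pPrimePCore
    rw [Subgroup.mem_comap, QuotientGroup.mk'_apply, (QuotientGroup.eq_one_iff x).2 hx]
    exact one_mem _))
  -- the quotient of the base by M0 is a 2-group
  have hq : IsPGroup 2 (↥(base X) ⧸ M0.subgroupOf (base X)) := by
    intro y
    induction y using QuotientGroup.induction_on with
    | H y =>
      obtain ⟨y, hy⟩ := y
      obtain ⟨l, hl, c, hc, rfl⟩ : ∃ l ∈ pLayer 2 X, ∃ c ∈ pPrimePCore 2 X, l * c = y :=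
        Subgroup.mem_sup_of_normal_right.1 hy
      obtain ⟨k, hk⟩ := exists_pow_mem_of_mem_pPrimePCore hc
      refine ⟨k, ?_⟩
      rw [← QuotientGroup.mk_pow, QuotientGroup.eq_one_iff, Subgroup.mem_subgroupOf,
        Subgroup.coe_pow]
      have h1 : ((l * c : X) : X ⧸ M0) ^ 2 ^ k = 1 := by
        rw [QuotientGroup.mk_mul, (QuotientGroup.eq_one_iff l).2 (Subgroup.mem_sup_left hl),
          one_mul, ← QuotientGroup.mk_pow, QuotientGroup.eq_one_iff]
        exact Subgroup.mem_sup_right hk
      rwa [← QuotientGroup.mk_pow, QuotientGroup.eq_one_iff] at h1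
  have htop : M0.subgroupOf (base X) ⊔ (T : Subgroup ↥(base X)) = ⊤ := by
    rw [← Subgroup.index_eq_one]
    obtain ⟨n, hn⟩ := hq.exists_card_eq
    have h1 : (M0.subgroupOf (base X) ⊔ (T : Subgroup ↥(base X))).index ∣ 2 ^ n := by
      rw [← hn]
      exact Subgroup.index_dvd_of_le le_sup_left
    obtain ⟨i, -, hi⟩ := (Nat.dvd_prime_pow Nat.prime_two).1 h1
    rcases i with _ | i
    · simpa using hi
    · exfalso
      refine T.not_dvd_index (dvd_trans ?_ (Subgroup.index_dvd_of_le
        (le_sup_right : (T : Subgroup ↥(base X)) ≤ M0.subgroupOf (base X) ⊔ ↑T)))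
      rw [hi]
      exact dvd_pow_self 2 (Nat.succ_ne_zero i)
  have h2 := congrArg (Subgroup.map (base X).subtype) htop
  rw [Subgroup.map_sup, Subgroup.map_subgroupOf_eq_of_le hle, ← MonoidHom.range_eq_map,
    Subgroup.range_subtype] at h2
  exact h2.ge

theorem extendedTwoLayer_eq (T : Sylow 2 ↥(base X)) :
    extendedTwoLayer X = pLayer 2 X ⊔ oddCore X ⊔
      coreCent ((T : Subgroup ↥(base X)).map (base X).subtype) := by
  unfold extendedTwoLayer
  refine le_antisymm (sup_le le_sup_left (iSup_le fun T' => ?_))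
    (sup_le_sup_left (le_iSup (fun T : Sylow 2 ↥(base X) =>
      coreCent ((T : Subgroup ↥(base X)).map (base X).subtype)) T) _)
  set T0 := (T : Subgroup ↥(base X)).map (base X).subtype with hT0
  obtain ⟨⟨n, hn⟩, hsm⟩ := MulAction.exists_smul_eq ↥(base X) T T'
  have : (pLayer 2 X ⊔ oddCore X).Normal := Subgroup.sup_normal _ _
  obtain ⟨m, hm, t, ht, hmt⟩ := Subgroup.mem_sup_of_normal_left.1 (base_le T hn)
  have hT' : (T' : Subgroup ↥(base X)).map (base X).subtype
      = T0.map (MulAut.conj m).toMonoidHom := by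
    rw [← hsm, Sylow.coe_subgroup_smul]
    ext x
    constructor
    · rintro ⟨y, hy, rfl⟩
      rw [SetLike.mem_coe, Subgroup.mem_pointwise_smul_iff_inv_smul_mem] at hy
      refine ⟨t * (n⁻¹ * (y : X) * n) * t⁻¹, ?_, ?_⟩
      · refine mul_mem (mul_mem ht ?_) (inv_mem ht)
        exact ⟨_, hy, by simp [MulAut.smul_def]⟩
      · simp [← hmt, mul_assoc]
    · rintro ⟨y, hy, rfl⟩
      have hy' : t⁻¹ * y * t ∈ T0 := mul_mem (mul_mem (inv_mem ht) hy) ht
      obtain ⟨z, hz, hzy⟩ := hy'
      simp only [Subgroup.coe_subtype] at hzy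
      refine ⟨(MulAut.conj (⟨n, hn⟩ : base X)) z, ?_, ?_⟩
      · exact Subgroup.smul_mem_pointwise_smul _ _ _ hz
      · simp [hzy, ← hmt, mul_assoc]
  show coreCent ((T' : Subgroup ↥(base X)).map (base X).subtype) ≤ _
  rw [hT', ← coreCent_map]
  rintro _ ⟨c, hc, rfl⟩
  simp only [MulEquiv.coe_toMonoidHom, MulAut.conj_apply]
  exact mul_mem (mul_mem (Subgroup.mem_sup_left hm) (Subgroup.mem_sup_right hc))
    (inv_mem (Subgroup.mem_sup_left hm))

theorem extendedTwoLayer_normal : (extendedTwoLayer X).Normal := by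
  refine ⟨fun x hx g => ?_⟩
  have : (pLayer 2 X ⊔ oddCore X).Normal := Subgroup.sup_normal _ _
  have h : (extendedTwoLayer X).map (MulAut.conj g).toMonoidHom ≤ extendedTwoLayer X := by
    obtain ⟨T⟩ : Nonempty (Sylow 2 ↥(base X)) := inferInstance
    have hb : (base X).Normal := Subgroup.sup_normal _ _
    rw [extendedTwoLayer_eq T, Subgroup.map_sup, coreCent_map]
    refine sup_le (le_sup_of_le_left ?_) ?_
    · rintro _ ⟨y, hy, rfl⟩
      exact this.conj_mem y hy g
    · rw [← extendedTwoLayer_eq T, extendedTwoLayer_eq ((MulAut.conjNormal g : MulAut (base X)) • T)]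
      refine le_trans (le_of_eq (congrArg coreCent ?_)) le_sup_right
      ext z
      constructor
      · rintro ⟨w, ⟨y, hy, rfl⟩, rfl⟩
        exact ⟨MulAut.conjNormal g y, Subgroup.smul_mem_pointwise_smul _ _ _ hy, by simp⟩
      · rintro ⟨y, hy, rfl⟩
        obtain ⟨w, hw, rfl⟩ := hy
        exact ⟨(w : X), ⟨w, hw, rfl⟩, (MulAut.conjNormal_apply g w).symm⟩
  exact h ⟨x, hx, rfl⟩

theorem exists_odd_complement :
    ∃ F : Subgroup X, Odd (Nat.card ↥F) ∧
      (∃ S : Sylow 2 X, (S : Subgroup X) ≤ Subgroup.normalizer (F : Set X)) ∧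
      extendedTwoLayer X = pLayer 2 X ⊔ F := by
  obtain ⟨T⟩ : Nonempty (Sylow 2 ↥(base X)) := inferInstance
  set T0 := (T : Subgroup ↥(base X)).map (base X).subtype with hT0
  refine ⟨oddCore X ⊔ coreCent T0, ?_, ?_, ?_⟩
  · have h1 : Odd (Nat.card (coreCent T0)) := by
      rw [Subgroup.card_map_of_injective (Subgroup.subtype_injective _)]
      exact oddCore_odd
    have h2 := Subgroup.card_mul_index ((oddCore X).subgroupOf (coreCent T0 ⊔ oddCore X))
    rw [Nat.card_congr (Subgroup.subgroupOfEquivOfLe le_sup_right).toEquiv, ← Subgroup.relIndex,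
      Subgroup.relIndex_sup_right] at h2
    rw [sup_comm, ← h2]
    exact oddCore_odd.mul (h1.of_dvd_nat (Subgroup.index_dvd_card _))
  · obtain ⟨S, hS⟩ := (T.2.map (base X).subtype).exists_le_sylow
    have hb : (base X).Normal := Subgroup.sup_normal _ _
    have hint : (S : Subgroup X) ⊓ base X ≤ T0 := by
      have h1 : (S : Subgroup X).subgroupOf (base X) = ↑T :=
        T.3 (S.2.comap_subtype) (fun y hy => hS ⟨y, hy, rfl⟩)
      intro x hx
      have hy : (⟨x, hx.2⟩ : base X) ∈ (T : Subgroup ↥(base X)) := h1 ▸ hx.1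
      exact ⟨_, hy, rfl⟩
    refine ⟨S, fun s hs => ?_⟩
    have hT : T0.map (MulAut.conj s).toMonoidHom = T0 := by
      have hle : T0.map (MulAut.conj s).toMonoidHom ≤ T0 := by
        rintro _ ⟨y, hy, rfl⟩
        refine hint ⟨?_, ?_⟩
        · exact mul_mem (mul_mem hs (hS hy)) ((S : Subgroup X).inv_mem hs)
        · exact hb.conj_mem y (Subgroup.map_subtype_le _ hy) s
      refine Subgroup.eq_of_le_of_card_ge hle ?_
      rw [Subgroup.card_map_of_injective (f := (MulAut.conj s).toMonoidHom) (MulAut.conj s).injective]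
    have hmap : (oddCore X ⊔ coreCent T0).map (MulAut.conj s).toMonoidHom
        = oddCore X ⊔ coreCent T0 := by
      rw [Subgroup.map_sup, coreCent_map, hT, map_pPrimeCore]
    rw [Subgroup.mem_normalizer_iff]
    intro x
    conv_rhs => rw [← hmap]
    constructor
    · exact fun hx => ⟨x, hx, rfl⟩
    · rintro ⟨y, hy, hyx⟩
      rwa [← (MulAut.conj s).injective hyx]
  · rw [extendedTwoLayer_eq T, sup_assoc]

end Cfsg.Agent.ExtLayer
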